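import Cfsg.Prelude.Def_OddOrderLocal
import Cfsg.Agent.H41.Uniqueness
import Cfsg.Agent.Cores.PCore
import Cfsg.Agent.Hall.Existence
import Cfsg.Agent.Hall.CardForms
import Cfsg.Agent.Coprime.Basic
import Cfsg.Agent.Components.PLocal

/-!
# Foundations for the local analysis: maximal subgroups, `σ(M)`, `M_σ`, `τ_i(M)`, `κ(M)`
-/

set_option autoImplicit false

namespace Cfsg.Agent.OddOrder

open Subgroup

variable {G : Type*} [Group G]

/-! ### minimal simple groups of odd order -/

theorem ne_two_of_dvd [Finite G] (hG : IsMinSimpleOddOrder G) {X : Subgroup G} {p : ℕ}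
    (h : p ∣ Nat.card X) : p ≠ 2 := by
  rintro rfl
  exact Nat.not_even_iff_odd.mpr hG.1 (even_iff_two_dvd.mpr (h.trans (card_subgroup_dvd_card X)))

theorem odd_card [Finite G] (hG : IsMinSimpleOddOrder G) (X : Subgroup G) : Odd (Nat.card X) :=
  hG.1.of_dvd_nat (card_subgroup_dvd_card X)

theorem isSolvable_of_ne_top (hG : IsMinSimpleOddOrder G) {X : Subgroup G} (hX : X ≠ ⊤) :
    Group.IsSolvable X :=
  hG.2.2.2 X hX

theorem isSolvable_of_le_max (hG : IsMinSimpleOddOrder G) {X M : Subgroup G} (hM : IsCoatom M)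
    (hX : X ≤ M) : Group.IsSolvable X :=
  isSolvable_of_ne_top hG fun h => hM.1 (top_le_iff.mp (h ▸ hX))

theorem exists_coatom_ge [Finite G] {X : Subgroup G} (hX : X ≠ ⊤) :
    ∃ M : Subgroup G, IsCoatom M ∧ X ≤ M := by
  obtain ⟨M, hXM, hM⟩ := Finite.exists_le_maximal (p := fun L : Subgroup G => L ≠ ⊤) hX
  exact ⟨M, ⟨hM.prop, fun L hL => by_contra fun h => hL.not_ge (hM.le_of_ge h hL.le)⟩, hXM⟩

theorem max_ne_bot [Finite G] (hG : IsMinSimpleOddOrder G) {M : Subgroup G} (hM : IsCoatom M) :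
    M ≠ ⊥ := by
  rintro rfl
  haveI := hG.2.1
  refine hG.2.2.1 ⟨⟨fun a b => ?_⟩⟩
  rcases eq_or_ne a 1 with rfl | ha
  · rw [one_mul, mul_one]
  · have h : Subgroup.zpowers a = ⊤ :=
      hM.2 _ (bot_lt_iff_ne_bot.mpr (by rwa [ne_eq, zpowers_eq_bot]))
    obtain ⟨i, rfl⟩ := mem_zpowers_iff.mp (h ▸ mem_top b : b ∈ zpowers a)
    exact (Commute.refl a).zpow_right i

theorem normalizer_eq_max [Finite G] (hG : IsMinSimpleOddOrder G) {M K : Subgroup G}
    (hM : IsCoatom M) (hKM : K ≤ M) (hK : K ≠ ⊥) (hn : M ≤ normalizer (K : Set G)) :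
    normalizer (K : Set G) = M :=
  H41.normalizer_eq_of_isCoatom hG.2 hM hKM hK hn

theorem normalizer_max [Finite G] (hG : IsMinSimpleOddOrder G) {M : Subgroup G} (hM : IsCoatom M) :
    normalizer (M : Set G) = M :=
  normalizer_eq_max hG hM le_rfl (max_ne_bot hG hM) le_normalizer

theorem mem_normalizer_iff_map {H : Subgroup G} {g : G} :
    g ∈ normalizer (H : Set G) ↔ H.map (MulAut.conj g).toMonoidHom = H := by
  constructor
  · intro hg
    ext x
    constructor
    · rintro ⟨y, hy, rfl⟩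
      exact (mem_normalizer_iff.mp hg y).mp hy
    · intro hx
      refine ⟨g⁻¹ * x * g, (mem_normalizer_iff.mp hg _).mpr ?_, ?_⟩
      · simpa [mul_assoc] using hx
      · simp [mul_assoc]
  · intro h
    rw [mem_normalizer_iff]
    refine fun x => ⟨fun hx => h.le ⟨x, hx, rfl⟩, fun hx => ?_⟩
    obtain ⟨y, hy, hyx⟩ := h.ge hx
    have : y = x := by simpa [MulAut.conj] using hyx
    exact this ▸ hy

theorem map_conj_max_eq_iff [Finite G] (hG : IsMinSimpleOddOrder G) {M : Subgroup G}
    (hM : IsCoatom M) {g : G} : M.map (MulAut.conj g).toMonoidHom = M ↔ g ∈ M := by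
  rw [← mem_normalizer_iff_map, normalizer_max hG hM]

theorem isCoatom_map (e : G ≃* G) {M : Subgroup G} (hM : IsCoatom M) :
    IsCoatom (M.map e.toMonoidHom) := by
  have := (MulEquiv.mapSubgroup e).isCoatom_iff M
  exact this.mpr hM

/-- Images under an automorphism of characteristic-like operations. -/
theorem map_mapSubtype (e : G ≃* G) {M : Subgroup G} (D : Subgroup M)
    (D' : Subgroup (M.map e.toMonoidHom)) (h : D.map (e.subgroupMap M).toMonoidHom = D') :
    (D.map M.subtype).map e.toMonoidHom = D'.map (M.map e.toMonoidHom).subtype := by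
  rw [← h]
  ext x
  constructor
  · rintro ⟨_, ⟨d, hd, rfl⟩, rfl⟩
    exact ⟨e.subgroupMap M d, ⟨d, hd, rfl⟩, rfl⟩
  · rintro ⟨_, ⟨d, hd, rfl⟩, rfl⟩
    exact ⟨_, ⟨d, hd, rfl⟩, rfl⟩

theorem pRankLE_congr {A B : Type*} [Group A] [Group B] (e : A ≃* B) {p k : ℕ}
    (h : PRankLE p k A) : PRankLE p k B := by
  intro E hc he
  have h1 := h (E.map e.symm.toMonoidHom) (Subgroup.map_isMulCommutative E _) (by
    rintro _ ⟨x, hx, rfl⟩
    rw [← map_pow, he x hx, map_one])
  rwa [Subgroup.card_map_of_injective (f := e.symm.toMonoidHom) e.symm.injective] at h1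

theorem pRankLE_congr_iff {A B : Type*} [Group A] [Group B] (e : A ≃* B) {p k : ℕ} :
    PRankLE p k A ↔ PRankLE p k B :=
  ⟨pRankLE_congr e, pRankLE_congr e.symm⟩

theorem pRankLE_mono_le {X Y : Subgroup G} {p k : ℕ} (hXY : X ≤ Y) (h : PRankLE p k Y) :
    PRankLE p k X := by
  intro E hc he
  have h1 := h (E.map (inclusion hXY)) (Subgroup.map_isMulCommutative E _) (by
    rintro _ ⟨x, hx, rfl⟩
    rw [← map_pow, he x hx, map_one])
  rwa [Subgroup.card_map_of_injective (inclusion_injective hXY)] at h1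

theorem pRankLE_mono_nat {A : Type*} [Group A] {p k l : ℕ} (hp : 0 < p) (hkl : k ≤ l)
    (h : PRankLE p k A) : PRankLE p l A :=
  fun E hc he => (h E hc he).trans (Nat.pow_le_pow_right hp hkl)

/-! ### `σ(M)` -/

theorem prime_of_mem_sigma {M : Subgroup G} {p : ℕ} (h : p ∈ sigma M) : p.Prime := h.1

theorem dvd_of_mem_sigma {M : Subgroup G} {p : ℕ} (h : p ∈ sigma M) : p ∣ Nat.card M := h.2.1

/-- The defining condition of `σ(M)` holds for every Sylow subgroup. -/
theorem normalizer_sylow_le [Finite G] {M : Subgroup G} {p : ℕ} [Fact p.Prime] (h : p ∈ sigma M)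
    (P : Sylow p M) : normalizer (((P : Subgroup M).map M.subtype : Subgroup G) : Set G) ≤ M := by
  obtain ⟨-, -, Q, hQ⟩ := h
  obtain ⟨m, rfl⟩ := MulAction.exists_smul_eq M Q P
  have he : (((m • Q : Sylow p M) : Subgroup M)).map M.subtype =
      ((Q : Subgroup M).map M.subtype).map (MulAut.conj (m : G)).toMonoidHom := by
    show ((Q : Subgroup M).map (MulAut.conj m).toMonoidHom).map M.subtype = _
    rw [Subgroup.map_map, Subgroup.map_map]
    rfl
  rw [he]
  intro x hx
  rw [mem_normalizer_iff_map] at hx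
  have : (m : G)⁻¹ * x * m ∈ normalizer (((Q : Subgroup M).map M.subtype : Subgroup G) : Set G) := by
    rw [mem_normalizer_iff_map]
    set Q₀ := ((Q : Subgroup M).map M.subtype : Subgroup G)
    have hcomp : ∀ a b : G, (MulAut.conj a).toMonoidHom.comp (MulAut.conj b).toMonoidHom =
        (MulAut.conj (a * b)).toMonoidHom := fun a b => MonoidHom.ext fun y => by simp [mul_assoc]
    apply Subgroup.map_injective (f := (MulAut.conj (m : G)).toMonoidHom) (MulAut.conj (m : G)).injective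
    rw [Subgroup.map_map, hcomp, show (m : G) * ((m : G)⁻¹ * x * m) = x * m by simp [mul_assoc],
      ← hcomp, ← Subgroup.map_map, hx]
  have h1 := M.mul_mem (M.mul_mem m.2 (hQ this)) (M.inv_mem m.2)
  simpa [mul_assoc] using h1

theorem exists_sylow_of_mem_sigma [Finite G] {M : Subgroup G} {p : ℕ} [Fact p.Prime]
    (h : p ∈ sigma M) (P : Sylow p M) :
    ∃ S : Sylow p G, (S : Subgroup G) = (P : Subgroup M).map M.subtype := by
  set P₀ := (P : Subgroup M).map M.subtype with hP₀
  have hP₀p : IsPGroup p P₀ := P.isPGroup'.map _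
  obtain ⟨S, hS⟩ := hP₀p.exists_le_sylow
  refine ⟨S, le_antisymm ?_ hS⟩
  by_contra hne
  -- a proper subgroup of a `p`-group grows in its normalizer
  have hlt : P₀.subgroupOf S < ⊤ := by
    rw [lt_top_iff_ne_top, ne_eq, subgroupOf_eq_top]
    exact hne
  haveI : Group.IsNilpotent S := S.isPGroup'.isNilpotent
  obtain ⟨x, hxn, hx⟩ := SetLike.exists_of_lt (normalizerCondition_of_isNilpotent (P₀.subgroupOf S) hlt)
  have hxN : (x : G) ∈ normalizer (P₀ : Set G) := by
    rw [mem_normalizer_iff]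
    intro y
    constructor
    · intro hy
      exact (mem_normalizer_iff.mp hxn ⟨y, hS hy⟩).mp hy
    · intro hy
      have hyS : y ∈ (S : Subgroup G) := by
        have := (S : Subgroup G).mul_mem ((S : Subgroup G).mul_mem
          ((S : Subgroup G).inv_mem x.2) (hS hy)) x.2
        simpa [mul_assoc] using this
      exact (mem_normalizer_iff.mp hxn ⟨y, hyS⟩).mpr hy
  -- so it is a larger `p`-subgroup of `M`
  have hxM : (x : G) ∈ M := normalizer_sylow_le h P hxN
  set Q := ((S : Subgroup G)).comap M.subtype with hQ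
  have hQp : IsPGroup p Q := S.isPGroup'.comap_of_injective _ M.subtype_injective
  have hPQ : (P : Subgroup M) ≤ Q := fun y hy => hS ⟨y, hy, rfl⟩
  have := P.is_maximal' hQp hPQ
  exact hx (by
    show (x : G) ∈ P₀
    exact ⟨⟨x, hxM⟩, this ▸ x.2, rfl⟩)

theorem not_dvd_index_of_mem_sigma [Finite G] {M : Subgroup G} {p : ℕ} [Fact p.Prime]
    (h : p ∈ sigma M) : ¬ p ∣ M.index := by
  obtain ⟨P⟩ : Nonempty (Sylow p M) := inferInstance
  obtain ⟨S, hS⟩ := exists_sylow_of_mem_sigma h P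
  exact fun hd => S.not_dvd_index (hd.trans (index_dvd_of_le (hS ▸ map_subtype_le _)))

theorem sigma_map (e : G ≃* G) [Finite G] (M : Subgroup G) :
    sigma (M.map e.toMonoidHom) = sigma M := by
  have key : ∀ (e : G ≃* G) (M : Subgroup G) (p : ℕ), p ∈ sigma M → p ∈ sigma (M.map e.toMonoidHom) := by
    rintro e M p ⟨hp, hd, P, hP⟩
    haveI := Fact.mk hp
    refine ⟨hp, by rwa [Subgroup.card_map_of_injective (f := e.toMonoidHom) e.injective],
      P.mapSurjective (f := (e.subgroupMap M).toMonoidHom) (e.subgroupMap M).surjective, ?_⟩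
    show normalizer ((((P : Subgroup M).map (e.subgroupMap M).toMonoidHom).map
      (M.map e.toMonoidHom).subtype : Subgroup G) : Set G) ≤ _
    rw [← map_mapSubtype e (P : Subgroup M) _ rfl, ← Subgroup.map_equiv_normalizer_eq _ e]
    exact map_mono hP
  ext p
  refine ⟨fun h => ?_, key e M p⟩
  have := key e.symm _ p h
  rwa [map_map, show e.symm.toMonoidHom.comp e.toMonoidHom = MonoidHom.id G from
    MonoidHom.ext fun x => e.symm_apply_apply x, map_id] at this

theorem alpha_map (e : G ≃* G) (M : Subgroup G) : alpha (M.map e.toMonoidHom) = alpha M := by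
  ext p
  exact and_congr_right fun _ => not_congr (pRankLE_congr_iff (e.subgroupMap M).symm)

/-! ### `M_σ` -/

theorem piCoreOf_le (π : Set ℕ) (X : Subgroup G) : piCoreOf π X ≤ X := map_subtype_le _

theorem le_normalizer_piCoreOf [Finite G] (π : Set ℕ) (X : Subgroup G) :
    X ≤ normalizer (piCoreOf π X : Set G) :=
  Components.le_normalizer_map_subtype _

theorem piCoreOf_isPiNumber [Finite G] (π : Set ℕ) (X : Subgroup G) :
    Cores.IsPiNumber π (Nat.card (piCoreOf π X)) := by
  rw [piCoreOf, Subgroup.card_map_of_injective X.subtype_injective]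
  exact Cores.piCore_isPiNumber π

theorem le_piCoreOf [Finite G] {π : Set ℕ} {X N : Subgroup G} (hN : N ≤ X)
    (hn : X ≤ normalizer (N : Set G)) (hπ : Cores.IsPiNumber π (Nat.card N)) :
    N ≤ piCoreOf π X := by
  haveI : (N.subgroupOf X).Normal := normal_subgroupOf_of_le_normalizer hn
  intro x hx
  refine ⟨⟨x, hN hx⟩, Cores.le_piCore (N := N.subgroupOf X) ?_ hx, rfl⟩
  rwa [Nat.card_congr (subgroupOfEquivOfLe hN).toEquiv]

theorem piCoreOf_map [Finite G] (e : G ≃* G) (π : Set ℕ) (X : Subgroup G) :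
    (piCoreOf π X).map e.toMonoidHom = piCoreOf π (X.map e.toMonoidHom) :=
  map_mapSubtype e _ _ (Cores.piCore_map_mulEquiv π (e.subgroupMap X))

theorem sigmaCore_eq (M : Subgroup G) : sigmaCore M = piCoreOf (sigma M) M := rfl

theorem alphaCore_eq (M : Subgroup G) : alphaCore M = piCoreOf (alpha M) M := rfl

theorem sigmaCore_le (M : Subgroup G) : sigmaCore M ≤ M := map_subtype_le _

theorem le_normalizer_sigmaCore [Finite G] (M : Subgroup G) :
    M ≤ normalizer (sigmaCore M : Set G) := le_normalizer_piCoreOf _ _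

theorem sigmaCore_isPiNumber [Finite G] (M : Subgroup G) :
    Cores.IsPiNumber (sigma M) (Nat.card (sigmaCore M)) := piCoreOf_isPiNumber _ _

theorem sigmaCore_map [Finite G] (e : G ≃* G) (M : Subgroup G) :
    (sigmaCore M).map e.toMonoidHom = sigmaCore (M.map e.toMonoidHom) := by
  rw [sigmaCore_eq, sigmaCore_eq, piCoreOf_map, sigma_map]

theorem le_centralizer_map (e : G ≃* G) (X : Subgroup G) :
    (centralizer (X : Set G)).map e.toMonoidHom = centralizer (X.map e.toMonoidHom : Set G) := by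
  ext y
  constructor
  · rintro ⟨c, hc, rfl⟩
    refine mem_centralizer_iff.mpr ?_
    rintro _ ⟨x, hx, rfl⟩
    rw [← map_mul, ← map_mul, mem_centralizer_iff.mp hc x hx]
  · intro hy
    refine ⟨e.symm y, mem_centralizer_iff.mpr fun x hx => e.injective ?_, e.apply_symm_apply y⟩
    rw [map_mul, map_mul, e.apply_symm_apply]
    exact mem_centralizer_iff.mp hy _ ⟨x, hx, rfl⟩

/-! ### the classification of primes outside `σ(M)` -/

theorem cyclic_pRankLE_one {A : Type*} [Group A] [Finite A] [IsCyclic A] {p : ℕ} (hp : 0 < p) :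
    PRankLE p 1 A := by
  intro E _ he
  rw [pow_one]
  haveI : IsCyclic E := Subgroup.isCyclic E
  rw [← IsCyclic.exponent_eq_card]
  exact Nat.le_of_dvd hp (Monoid.exponent_dvd_of_forall_pow_eq_one fun x =>
    Subtype.ext (by simpa using he x x.2))

theorem pRankLE_of_sylow {A : Type*} [Group A] [Finite A] {p k : ℕ} [Fact p.Prime] (P : Sylow p A)
    (h : PRankLE p k P) : PRankLE p k A := by
  intro E hc he
  have hEp : IsPGroup p E := fun x => ⟨1, Subtype.ext (by simpa using he x x.2)⟩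
  obtain ⟨Q, hQ⟩ := hEp.exists_le_sylow
  obtain ⟨g, rfl⟩ := MulAction.exists_smul_eq A Q P
  have h1 := h ((E.map (MulAut.conj g).toMonoidHom).subgroupOf _) ?_ ?_
  · rwa [Nat.card_congr (subgroupOfEquivOfLe (show E.map (MulAut.conj g).toMonoidHom ≤
        ((g • Q : Sylow p A) : Subgroup A) from map_mono hQ)).toEquiv,
      Subgroup.card_map_of_injective (f := (MulAut.conj g).toMonoidHom) (MulAut.conj g).injective] at h1
  · haveI := Subgroup.map_isMulCommutative E (MulAut.conj g).toMonoidHom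
    exact ⟨⟨fun a b => Subtype.ext (Subtype.ext
      (congrArg (fun t : E.map (MulAut.conj g).toMonoidHom => (t : A))
        (mul_comm' (⟨_, a.2⟩ : E.map (MulAut.conj g).toMonoidHom) ⟨_, b.2⟩)))⟩⟩
  · rintro x ⟨y, hy, hxy⟩
    refine Subtype.ext ?_
    show (x : A) ^ p = 1
    rw [show (x : A) = (MulAut.conj g).toMonoidHom y from hxy.symm, ← map_pow, he y hy, map_one]

theorem kappa_pRankLE_one [Finite G] {M : Subgroup G} {p : ℕ} (h : p ∈ kappa M) :
    PRankLE p 1 M := by
  obtain ⟨hp, -, -, hall⟩ := h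
  haveI := Fact.mk hp
  obtain ⟨P⟩ : Nonempty (Sylow p M) := inferInstance
  haveI := (hall P).1
  exact pRankLE_of_sylow P (cyclic_pRankLE_one hp.pos)

theorem kappa_subset_tau13 [Finite G] (M : Subgroup G) : kappa M ⊆ tau1 M ∪ tau3 M := by
  intro p h
  by_cases hd : p ∣ Nat.card ↥⁅M, M⁆
  · exact Or.inr ⟨h.1, h.2.2.1, hd, kappa_pRankLE_one h⟩
  · exact Or.inl ⟨h.1, h.2.2.1, h.2.1, hd, kappa_pRankLE_one h⟩

theorem kappa_disjoint_sigma {M : Subgroup G} {p : ℕ} (h : p ∈ kappa M) : p ∉ sigma M := h.2.2.1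

theorem tau2_disjoint_tau1 {M : Subgroup G} {p : ℕ} (h : p ∈ tau2 M) : p ∉ tau1 M :=
  fun h1 => h.2.2.2 h1.2.2.2.2

theorem tau2_disjoint_tau3 {M : Subgroup G} {p : ℕ} (h : p ∈ tau2 M) : p ∉ tau3 M :=
  fun h1 => h.2.2.2 h1.2.2.2

theorem tau1_disjoint_tau3 {M : Subgroup G} {p : ℕ} (h : p ∈ tau1 M) : p ∉ tau3 M :=
  fun h1 => h.2.2.2.1 h1.2.2.1

theorem kappa_disjoint_tau2 [Finite G] {M : Subgroup G} {p : ℕ} (h : p ∈ kappa M) : p ∉ tau2 M :=
  fun h2 => h2.2.2.2 (kappa_pRankLE_one h)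

theorem tau_cases [Finite G] {M : Subgroup G} (hα : alpha M ⊆ sigma M) {p : ℕ} (hp : p.Prime)
    (hd : p ∣ Nat.card M) (hs : p ∉ sigma M) : p ∈ tau1 M ∨ p ∈ tau2 M ∨ p ∈ tau3 M := by
  have h2 : PRankLE p 2 M := by_contra fun h => hs (hα ⟨hp, h⟩)
  by_cases h1 : PRankLE p 1 M
  · by_cases hd' : p ∣ Nat.card ↥⁅M, M⁆
    · exact Or.inr (Or.inr ⟨hp, hs, hd', h1⟩)
    · exact Or.inl ⟨hp, hs, hd, hd', h1⟩
  · exact Or.inr (Or.inl ⟨hp, hs, h2, h1⟩)

theorem tau1_map [Finite G] (e : G ≃* G) (M : Subgroup G) : tau1 (M.map e.toMonoidHom) = tau1 M := by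
  ext p
  have hk : ∀ k, PRankLE p k ↥(M.map e.toMonoidHom) ↔ PRankLE p k M := fun k =>
    (pRankLE_congr_iff (e.subgroupMap M)).symm
  simp only [tau1, Set.mem_setOf_eq, sigma_map, ← map_commutator,
    Subgroup.card_map_of_injective (f := e.toMonoidHom) e.injective,
    hk]

theorem tau2_map [Finite G] (e : G ≃* G) (M : Subgroup G) : tau2 (M.map e.toMonoidHom) = tau2 M := by
  ext p
  have hk : ∀ k, PRankLE p k ↥(M.map e.toMonoidHom) ↔ PRankLE p k M := fun k =>
    (pRankLE_congr_iff (e.subgroupMap M)).symm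
  simp only [tau2, Set.mem_setOf_eq, sigma_map, hk]

theorem tau3_map [Finite G] (e : G ≃* G) (M : Subgroup G) : tau3 (M.map e.toMonoidHom) = tau3 M := by
  ext p
  have hk : ∀ k, PRankLE p k ↥(M.map e.toMonoidHom) ↔ PRankLE p k M := fun k =>
    (pRankLE_congr_iff (e.subgroupMap M)).symm
  simp only [tau3, Set.mem_setOf_eq, sigma_map, ← map_commutator,
    Subgroup.card_map_of_injective (f := e.toMonoidHom) e.injective,
    hk]

theorem kappa_map [Finite G] (e : G ≃* G) (M : Subgroup G) :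
    kappa (M.map e.toMonoidHom) = kappa M := by
  have key : ∀ (e : G ≃* G) (M : Subgroup G) (p : ℕ), p ∈ kappa M → p ∈ kappa (M.map e.toMonoidHom) := by
    rintro e M p ⟨hp, hd, hs, hall⟩
    haveI := Fact.mk hp
    refine ⟨hp, by rwa [Subgroup.card_map_of_injective (f := e.toMonoidHom) e.injective],
      by rwa [sigma_map], fun P' => ?_⟩
    set φ := e.subgroupMap M
    let P : Sylow p M := P'.mapSurjective (f := φ.symm.toMonoidHom) φ.symm.surjective
    obtain ⟨hc, x, hx, hx1, y, hy, hy1, hxy⟩ := hall P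
    have hP : (P : Subgroup M) = (P' : Subgroup (M.map e.toMonoidHom)).map φ.symm.toMonoidHom :=
      Sylow.coe_mapSurjective φ.symm.surjective P'
    have eP : (P' : Subgroup (M.map e.toMonoidHom)) ≃* (P : Subgroup M) :=
      ((P' : Subgroup (M.map e.toMonoidHom)).equivMapOfInjective φ.symm.toMonoidHom φ.symm.injective).trans
        (MulEquiv.subgroupCongr hP.symm)
    haveI := hc
    refine ⟨isCyclic_of_surjective eP.symm eP.symm.surjective, φ x, ?_, ?_, e y, ?_, ?_, ?_⟩
    · rw [hP] at hx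
      obtain ⟨z, hz, rfl⟩ := hx
      show φ (φ.symm z) ∈ _
      rwa [φ.apply_symm_apply]
    · exact fun h => hx1 (φ.injective (h.trans φ.map_one.symm))
    · rw [← sigmaCore_map]; exact ⟨y, hy, rfl⟩
    · exact fun h => hy1 (e.injective (h.trans e.map_one.symm))
    · show e (x : G) * e y = e y * e (x : G)
      rw [← map_mul, ← map_mul, hxy]
  ext p
  refine ⟨fun h => ?_, key e M p⟩
  have := key e.symm _ p h
  rwa [map_map, show e.symm.toMonoidHom.comp e.toMonoidHom = MonoidHom.id G from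
    MonoidHom.ext fun x => e.symm_apply_apply x, map_id] at this

end Cfsg.Agent.OddOrder
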