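import Cfsg.Agent.OddOrder.Sigma.Basic
import Cfsg.Agent.OddOrder.BG4.Fitting
import Cfsg.Agent.Fusion.Basic
import Cfsg.Agent.H41.Nilpotent

/-!
# BG 10.2: `M_σ` is a Hall `σ(M)`-subgroup, `1 ≠ M_σ ≤ M'`, and complements to `M_σ`

Everything follows from the fusion property 10.1 and from the properties of `M_α`, which are
taken as hypotheses in the shape of the listed statements.
-/

set_option autoImplicit false

universe u

namespace Cfsg.Agent.OddOrder

open Subgroup

/-- The fusion property of `σ`-primes (statement shape of BG 10.1). -/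
def SigmaFusion (G : Type u) [Group G] : Prop :=
  ∀ M : Subgroup G, IsCoatom M → ∀ (p : ℕ) [Fact p.Prime], p ∈ sigma M →
    ∀ X : Subgroup G, IsPGroup p X → X ≠ ⊥ → X ≤ M →
    (∀ g : G, X.map (MulAut.conj g).toMonoidHom ≤ M →
        ∃ m ∈ M, ∃ c ∈ centralizer (X : Set G), g = m * c) ∧
      normalizer (X : Set G) = (M ⊓ normalizer (X : Set G)) ⊔ centralizer (X : Set G)

/-- The properties of `M_α` (statement shape of BG 10.2(a,d)). -/
def AlphaFacts (G : Type u) [Group G] : Prop :=
  ∀ M : Subgroup G, IsCoatom M →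
    IsPiHallOf (alpha M) (alphaCore M) M ∧ IsPiHall (alpha M) (alphaCore M) ∧
      alphaCore M ≤ sigmaCore M ∧ RankLE 2 (↥M ⧸ piCore (alpha M) ↥M) ∧
      Group.IsNilpotent ↥((commutator ↥M).map (QuotientGroup.mk' (piCore (alpha M) ↥M)))

variable {G : Type u} [Group G] [Finite G]

theorem dvd_card_of_not_pRankLE {X : Type*} [Group X] [Finite X] {p k : ℕ} [hp : Fact p.Prime]
    (h : ¬ PRankLE p k X) : p ∣ Nat.card X := by
  by_contra hd
  refine h fun E _ he => ?_
  have hEp : IsPGroup p E := fun x => ⟨1, Subtype.ext (by simpa using he x x.2)⟩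
  obtain ⟨n, hn⟩ := IsPGroup.iff_card.mp hEp
  rcases Nat.eq_zero_or_pos n with rfl | hn0
  · rw [hn, pow_zero]; exact Nat.one_le_pow _ _ hp.out.pos
  · exact absurd ((hn ▸ dvd_pow_self p hn0.ne' : p ∣ Nat.card E).trans
      (card_subgroup_dvd_card E)) hd

omit [Finite G] in
theorem dvd_card_of_hall {π : Set ℕ} {H M : Subgroup G} (h : IsPiHallOf π H M) {p : ℕ}
    (hp : p.Prime) (hπ : p ∈ π) (hd : p ∣ Nat.card M) : p ∣ Nat.card H := by
  rw [← card_eq_of_hallOf_aux h.1] at hd
  exact (hp.dvd_mul.mp hd).resolve_right (h.2.2 p hp hπ)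
where
  card_eq_of_hallOf_aux {H M : Subgroup G} (h : H ≤ M) :
      Nat.card H * H.relIndex M = Nat.card M := by
    rw [← relIndex_bot_left, ← relIndex_bot_left, relIndex_mul_relIndex _ _ _ bot_le h]

theorem alpha_subset_sigma (h405 : AlphaFacts G) {M : Subgroup G} (hM : IsCoatom M) :
    alpha M ⊆ sigma M := by
  intro p hp
  haveI := Fact.mk hp.1
  obtain ⟨h1, -, h3, -, -⟩ := h405 M hM
  have hd := dvd_card_of_hall h1 hp.1 hp (dvd_card_of_not_pRankLE hp.2)
  exact sigmaCore_isPiNumber M p hp.1 (hd.trans (card_dvd_of_le h3))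

theorem commutator_eq_top_of_minSimple (hG : IsMinSimpleOddOrder G) : commutator G = ⊤ := by
  haveI := hG.2.1
  refine (IsSimpleGroup.eq_bot_or_eq_top_of_normal (commutator G) inferInstance).resolve_left ?_
  intro h
  refine hG.2.2.1 ⟨⟨fun a b => commutatorElement_eq_one_iff_mul_comm.mp ?_⟩⟩
  rw [← mem_bot, ← h, commutator_def]
  exact commutator_mem_commutator (mem_top a) (mem_top b)

/-- A Sylow subgroup for a prime of `σ(M)` lies in `M'`. -/
theorem sylow_le_derived (hG : IsMinSimpleOddOrder G) (h404 : SigmaFusion G) {M : Subgroup G}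
    (hM : IsCoatom M) {p : ℕ} [Fact p.Prime] (hp : p ∈ sigma M) (P : Sylow p M) :
    (P : Subgroup M).map M.subtype ≤ ⁅M, M⁆ := by
  obtain ⟨S, hS⟩ := exists_sylow_of_mem_sigma hp P
  rw [← hS]
  have hSM : (S : Subgroup G) ≤ M := hS ▸ map_subtype_le _
  have hctl : Fusion.ControlsElementFusion M (S : Subgroup G) := by
    intro x hx g hg
    rcases eq_or_ne x 1 with rfl | hx1
    · exact ⟨1, M.one_mem, by simp⟩
    obtain ⟨h, -⟩ := h404 M hM p hp (zpowers x) (S.isPGroup'.to_le (zpowers_le.mpr hx))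
      (by simpa using hx1) ((zpowers_le.mpr hx).trans hSM)
    obtain ⟨m, hm, c, hc, rfl⟩ := h g (by
      rw [MonoidHom.map_zpowers, zpowers_le]
      exact hSM hg)
    refine ⟨m, hm, ?_⟩
    have hcx : c * x = x * c := (mem_centralizer_iff.mp hc x (mem_zpowers x)).symm
    calc m * x * m⁻¹ = m * (c * x * c⁻¹) * m⁻¹ := by rw [hcx]; group
      _ = m * c * x * (m * c)⁻¹ := by group
  intro y hy
  have h1 := Fusion.commutator_inf_eq_of_controls S hSM hctl
  rw [commutator_eq_top_of_minSimple hG, top_inf_eq] at h1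
  exact (h1.le hy).1

theorem relIndex_comap_dvd {X Y : Type*} [Group X] [Group Y] (f : X →* Y) {A : Subgroup X}
    (hk : f.ker = A) (Q : Subgroup Y) : A.relIndex (Q.comap f) ∣ Nat.card Q := by
  subst hk
  rw [Subgroup.relIndex_ker]
  exact card_dvd_of_le (map_comap_le f Q)

theorem isSolvable_max (hG : IsMinSimpleOddOrder G) {M : Subgroup G} (hM : IsCoatom M) :
    Group.IsSolvable M :=
  isSolvable_of_ne_top hG hM.1

/-- `O_σ(M)` contains every Sylow subgroup of `M` for a prime in `σ(M)`. -/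
theorem sylow_le_piCore (hG : IsMinSimpleOddOrder G) (h404 : SigmaFusion G) (h405 : AlphaFacts G)
    {M : Subgroup G} (hM : IsCoatom M) {p : ℕ} [Fact p.Prime] (hp : p ∈ sigma M) (P : Sylow p M) :
    (P : Subgroup M) ≤ piCore (sigma M) M := by
  obtain ⟨-, -, -, -, hnil⟩ := h405 M hM
  set A := piCore (alpha M) ↥M
  set f := QuotientGroup.mk' A
  have hf : Function.Surjective f := QuotientGroup.mk'_surjective A
  set C := (commutator ↥M).map f
  haveI hCn : C.Normal := Subgroup.Normal.map inferInstance f hf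
  haveI : Group.IsNilpotent C := hnil
  set Q := P.mapSurjective hf
  have hPder : (P : Subgroup M) ≤ commutator ↥M := by
    intro x hx
    have h1 := sylow_le_derived hG h404 hM hp P ⟨x, hx, rfl⟩
    rw [← map_subtype_commutator] at h1
    obtain ⟨y, hy, hyx⟩ := h1
    exact Subtype.ext hyx ▸ hy
  have hQC : (Q : Subgroup _) ≤ C := map_mono hPder
  let Q' : Sylow p C := Q.subtype hQC
  haveI : (Q' : Subgroup C).Normal :=
    ((Group.isNilpotent_of_finite_tfae (G := C)).out 0 3 rfl rfl).mp inferInstance p inferInstance Q'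
  have hQcore : (Q : Subgroup _) = pCore p (↥M ⧸ A) := by
    refine le_antisymm ?_ (Cores.pCore_le_sylow Q)
    have h1 : (Q' : Subgroup C) ≤ pCore p C := Cores.le_pCore Q'.isPGroup'
    have h2 := (map_mono (f := C.subtype) h1).trans (Cores.map_pCore_le_of_normal C)
    rwa [Sylow.coe_subtype, map_subgroupOf_eq_of_le hQC] at h2
  have hN : ((Q : Subgroup _).comap f).Normal := by
    rw [hQcore]; infer_instance
  have hπ : Cores.IsPiNumber (sigma M) (Nat.card ((Q : Subgroup _).comap f)) := by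
    intro q hq hd
    rw [← card_mul_index (A.subgroupOf ((Q : Subgroup _).comap f))] at hd
    rcases hq.dvd_mul.mp hd with h | h
    · have hAle : A ≤ (Q : Subgroup _).comap f :=
        fun a ha => mem_comap.mpr ((congrArg (· ∈ (Q : Subgroup (↥M ⧸ A)))
          (show f a = 1 from (QuotientGroup.eq_one_iff a).mpr ha)).mpr (one_mem _))
      rw [Nat.card_congr (subgroupOfEquivOfLe hAle).toEquiv] at h
      exact alpha_subset_sigma h405 hM (Cores.piCore_isPiNumber _ q hq h)
    · have h2 : A.relIndex ((Q : Subgroup _).comap f) ∣ Nat.card (Q : Subgroup (↥M ⧸ A)) := by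
        exact relIndex_comap_dvd f (QuotientGroup.ker_mk' A) (Q : Subgroup (↥M ⧸ A))
      obtain ⟨k, hk⟩ := IsPGroup.iff_card.mp Q.isPGroup'
      have := (Nat.prime_dvd_prime_iff_eq hq (Fact.out : p.Prime)).mp
        (hq.dvd_of_dvd_pow (hk ▸ h.trans h2))
      exact this ▸ hp
  exact (le_comap_map f (P : Subgroup M)).trans (Cores.le_piCore (hN := hN) hπ)

theorem not_dvd_index_piCore (hG : IsMinSimpleOddOrder G) (h404 : SigmaFusion G)
    (h405 : AlphaFacts G) {M : Subgroup G} (hM : IsCoatom M) {p : ℕ} (hpp : p.Prime)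
    (hp : p ∈ sigma M) : ¬ p ∣ (piCore (sigma M) M).index := by
  haveI := Fact.mk hpp
  obtain ⟨P⟩ : Nonempty (Sylow p M) := inferInstance
  exact fun hd => P.not_dvd_index (hd.trans (index_dvd_of_le (sylow_le_piCore hG h404 h405 hM hp P)))

omit [Finite G] in
theorem relIndex_piCoreOf (π : Set ℕ) (M : Subgroup G) :
    (piCoreOf π M).relIndex M = (piCore π M).index := by
  rw [piCoreOf, relIndex, subgroupOf, comap_map_eq_self_of_injective M.subtype_injective]

/-- **BG 10.2(b)**. -/
theorem sigmaCore_hall (hG : IsMinSimpleOddOrder G) (h404 : SigmaFusion G) (h405 : AlphaFacts G)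
    {M : Subgroup G} (hM : IsCoatom M) :
    IsPiHallOf (sigma M) (sigmaCore M) M ∧ IsPiHall (sigma M) (sigmaCore M) ∧
      ∀ N : Subgroup G, M ≤ normalizer (N : Set G) → IsPiHallOf (sigma M) N M →
        N = sigmaCore M := by
  have h1 : IsPiHallOf (sigma M) (sigmaCore M) M := by
    refine ⟨sigmaCore_le M, sigmaCore_isPiNumber M, fun p hpp hp => ?_⟩
    rw [sigmaCore_eq, relIndex_piCoreOf]
    exact not_dvd_index_piCore hG h404 h405 hM hpp hp
  refine ⟨h1, ⟨h1.2.1, fun p hpp hp hd => ?_⟩, fun N hN hNH => ?_⟩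
  · haveI := Fact.mk hpp
    rw [← relIndex_mul_index (sigmaCore_le M)] at hd
    exact (hpp.dvd_mul.mp hd).elim (h1.2.2 p hpp hp) (not_dvd_index_of_mem_sigma hp)
  · have hle : N ≤ sigmaCore M := le_piCoreOf hNH.1 hN hNH.2.1
    refine le_antisymm hle (relIndex_eq_one.mp ?_)
    by_contra hne
    obtain ⟨q, hq, hqd⟩ := Nat.exists_prime_and_dvd hne
    exact hNH.2.2 q hq (sigmaCore_isPiNumber M q hq (hqd.trans (relIndex_dvd_card _ _)))
      (hqd.trans (relIndex_dvd_of_le_right hle (sigmaCore_le M)))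
where
  relIndex_dvd_of_le_right {N X M : Subgroup G} (h₁ : N ≤ X) (h₂ : X ≤ M) :
      N.relIndex X ∣ N.relIndex M :=
    Dvd.intro _ (relIndex_mul_relIndex N X M h₁ h₂)

/-- **BG 10.2(c)**: `M_σ ≤ M'`. -/
theorem sigmaCore_le_derived (hG : IsMinSimpleOddOrder G) (h404 : SigmaFusion G)
    {M : Subgroup G} (hM : IsCoatom M) : sigmaCore M ≤ ⁅M, M⁆ := by
  rintro _ ⟨x, hx, rfl⟩
  rw [← map_subtype_commutator]
  refine mem_map_of_mem _ ?_
  -- the index of `M' ∩ M_σ` in `M_σ` has no prime divisor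
  have h : (commutator M).relIndex (piCore (sigma M) M) = 1 := by
    by_contra hne
    obtain ⟨q, hq, hqd⟩ := Nat.exists_prime_and_dvd hne
    haveI := Fact.mk hq
    have hqσ := Cores.piCore_isPiNumber (sigma M) q hq (hqd.trans (relIndex_dvd_card _ _))
    obtain ⟨P⟩ : Nonempty (Sylow q M) := inferInstance
    have hP : (P : Subgroup M) ≤ commutator ↥M := by
      intro y hy
      have h1 := sylow_le_derived hG h404 hM hqσ P ⟨y, hy, rfl⟩
      rw [← map_subtype_commutator] at h1
      obtain ⟨z, hz, hzy⟩ := h1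
      exact Subtype.ext hzy ▸ hz
    exact P.not_dvd_index
      ((hqd.trans (relIndex_dvd_index_of_normal _ _)).trans (index_dvd_of_le hP))
  exact relIndex_eq_one.mp h hx

/-- **BG 10.2(e)**: `M_σ ≠ 1`. -/
theorem sigmaCore_ne_bot (hG : IsMinSimpleOddOrder G) (h405 : AlphaFacts G)
    {M : Subgroup G} (hM : IsCoatom M) : sigmaCore M ≠ ⊥ := by
  intro hbot
  obtain ⟨-, -, h3, h4, -⟩ := h405 M hM
  haveI := isSolvable_max hG hM
  have hA : piCore (alpha M) ↥M = ⊥ := by
    rw [hbot, le_bot_iff] at h3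
    exact (map_eq_bot_iff_of_injective _ M.subtype_injective).mp h3
  have hr : RankLE 2 ↥M := fun r hr => by
    have := h4 r hr
    exact pRankLE_congr
      ((QuotientGroup.quotientMulEquivOfEq hA).trans QuotientGroup.quotientBot) this
  have hodd : Odd (Nat.card M) := odd_card hG M
  have hne : Nat.card M ≠ 1 := fun h => max_ne_bot hG hM (card_eq_one.mp h)
  have hnonempty : (Nat.card M).primeFactors.Nonempty := Nat.nonempty_primeFactors.mpr (by
    have : 0 < Nat.card M := Nat.card_pos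
    omega)
  set q := (Nat.card M).primeFactors.max' hnonempty
  have hqm := (Nat.card M).primeFactors.max'_mem hnonempty
  have hq : q.Prime := Nat.prime_of_mem_primeFactors hqm
  haveI := Fact.mk hq
  have hqd : q ∣ Nat.card M := Nat.dvd_of_mem_primeFactors hqm
  obtain ⟨N, hNc, hN⟩ := BG4.exists_char_hall_gt hodd
    (fun r hr' => BG4.pRankLE_pCore (Or.inl hr) hr')
    (BG4.commutator_le_fitting_of_action (BG4.action_of_rank hodd (Or.inl hr))) (q - 1)
  haveI := hNc
  have hNq : IsPGroup q N := by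
    refine IsPGroup.of_card (n := (Nat.card N).primeFactorsList.length) ?_
    refine Nat.eq_prime_pow_of_unique_prime_dvd (Nat.card_pos (α := N)).ne' fun {r} hr' hrd => ?_
    have h1 := (hN.1 r hr' hrd).2
    have h2 : r ≤ q := Finset.le_max' (Nat.card M).primeFactors r (Nat.mem_primeFactors.mpr
      ⟨hr', hrd.trans (card_subgroup_dvd_card N), Nat.card_pos.ne'⟩)
    omega
  have hNi : ¬ q ∣ N.index := hN.2 q hq ⟨hq, by have := hq.two_le; omega⟩
  have hN0 : N ≠ ⊥ := fun h => hNi (by rw [h, index_bot]; exact hqd)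
  haveI : Finite ↥M := inferInstance
  let P : Sylow q M := hNq.toSylow hNi
  have hsub : N.map M.subtype ≠ ⊥ := by
    rwa [ne_eq, map_eq_bot_iff_of_injective _ M.subtype_injective]
  have hσ : q ∈ sigma M := ⟨hq, hqd, P,
    (normalizer_eq_max hG hM (map_subtype_le _) hsub (Components.le_normalizer_map_subtype N)).le⟩
  have hle : N ≤ piCore (sigma M) M := by
    refine Cores.le_piCore fun r hr' hrd => ?_
    obtain ⟨k, hk⟩ := IsPGroup.iff_card.mp hNq
    exact (Nat.prime_dvd_prime_iff_eq hr' hq).mp (hr'.dvd_of_dvd_pow (hk ▸ hrd)) ▸ hσ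
  exact hsub (le_bot_iff.mp (hbot ▸ map_mono hle))

/-! ### complements to `M_σ` -/

/-- `E` is a Hall `σ(M)'`-subgroup when it is a complement to `M_σ`. -/
theorem compl_isPiHallOf {M E : Subgroup G} (hH : IsPiHallOf (sigma M) (sigmaCore M) M)
    (hE : IsComplIn E (sigmaCore M) M) :
    IsPiHallOf {q | q.Prime ∧ q ∉ sigma M} E M := by
  obtain ⟨hc1, hc⟩ := H41.IsComplIn.relIndex_eq hE
  refine ⟨hE.1, fun q hq hd => ⟨hq, fun hσ => ?_⟩, fun q hq hqπ hd => ?_⟩
  · apply hH.2.2 q hq hσ
    rwa [hc1]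
  · rw [hc] at hd
    exact hqπ.2 (sigmaCore_isPiNumber M q hq hd)

omit [Finite G] in
theorem coprime_of_hallOf {π : Set ℕ} {H M : Subgroup G} (h : IsPiHallOf π H M) :
    (Nat.card H).Coprime (H.relIndex M) :=
  Nat.coprime_of_dvd fun q hq h1 h2 => h.2.2 q hq (h.2.1 q hq h1) h2

omit [Finite G] in
/-- Complements to `M_σ` exist. -/
theorem exists_compl {M : Subgroup G} (hH : IsPiHallOf (sigma M) (sigmaCore M) M) :
    ∃ E : Subgroup G, IsComplIn E (sigmaCore M) M := by
  set N := piCore (sigma M) M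
  have hco : (Nat.card N).Coprime N.index := by
    have h := coprime_of_hallOf hH
    rwa [sigmaCore_eq, relIndex_piCoreOf, piCoreOf, card_map_of_injective M.subtype_injective] at h
  obtain ⟨K, hK⟩ := exists_right_complement'_of_coprime hco
  refine ⟨K.map M.subtype, map_subtype_le _, sigmaCore_le M, ?_, fun m hm => ?_⟩
  · show K.map M.subtype ⊓ N.map M.subtype = ⊥
    rw [← map_inf _ _ _ M.subtype_injective, hK.symm.disjoint.eq_bot, Subgroup.map_bot]
  · obtain ⟨⟨a, b⟩, hab⟩ := hK.symm.2 ⟨m, hm⟩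
    exact ⟨a, ⟨a, a.2, rfl⟩, b, ⟨b, b.2, rfl⟩, (congrArg Subtype.val hab).symm⟩

end Cfsg.Agent.OddOrder
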